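import Mathlib
import Cfsg.Agent.H697.Alm.Defs

/-!
# S4790, T14: the imprimitive case (helper41)

* `ps_imprim`
-/

set_option autoImplicit false

namespace Cfsg.Agent.H41.Imprim

open Cfsg.Agent.H697.Alm

universe u

section

variable {D E : Type u} [Group D] [AddCommGroup E] [DistribMulAction D E] {t : ℕ} {W : Fin t → AddSubgroup E}
  (hW : Blk D E t W)

include hW

/-- the components -/
noncomputable def cp (e : E) : Fin t → E := (hW.sum e).exists.choose

theorem cp_mem (e : E) (i : Fin t) : cp hW e i ∈ W i := (hW.sum e).exists.choose_spec.1 i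

theorem cp_sum (e : E) : ∑ i, cp hW e i = e := (hW.sum e).exists.choose_spec.2

theorem cp_eq {e : E} {f : Fin t → E} (h1 : ∀ i, f i ∈ W i) (h2 : ∑ i, f i = e) : cp hW e = f :=
  (hW.sum e).unique ⟨cp_mem hW e, cp_sum hW e⟩ ⟨h1, h2⟩

theorem cp_add (e f : E) (i : Fin t) : cp hW (e + f) i = cp hW e i + cp hW f i := by
  have h := cp_eq hW (e := e + f) (f := fun i => cp hW e i + cp hW f i)
    (fun i => add_mem (cp_mem hW e i) (cp_mem hW f i)) (by rw [Finset.sum_add_distrib, cp_sum, cp_sum])
  rw [h]

theorem cp_zero (i : Fin t) : cp hW 0 i = 0 := by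
  have h := cp_eq hW (e := 0) (f := fun _ => 0) (fun i => zero_mem _) (by simp)
  rw [h]

theorem cp_neg (e : E) (i : Fin t) : cp hW (-e) i = - cp hW e i := by
  have h := cp_add hW e (-e) i
  rw [add_neg_cancel, cp_zero] at h
  exact (neg_eq_of_add_eq_zero_right h.symm).symm

theorem cp_of_mem {e : E} {i : Fin t} (he : e ∈ W i) (j : Fin t) : cp hW e j = if j = i then e else 0 := by
  have h := cp_eq hW (e := e) (f := fun j => if j = i then e else 0) (fun j => by
    by_cases h : j = i
    · simp only [h, if_true]; exact he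
    · simp only [h, if_false]; exact zero_mem _) (by simp)
  rw [h]

theorem eq_of_mem {e : E} (he : e ≠ 0) {i j : Fin t} (hi : e ∈ W i) (hj : e ∈ W j) : i = j := by
  have h1 := cp_of_mem hW hi i
  have h2 := cp_of_mem hW hj i
  rw [h1, if_pos rfl] at h2
  by_contra hij
  rw [if_neg hij] at h2
  exact he h2

/-- the permutation of the blocks -/
noncomputable def pm (d : D) (i : Fin t) : Fin t := (hW.perm d i).choose

theorem pm_spec (d : D) (i : Fin t) (e : E) : e ∈ W i ↔ d • e ∈ W (pm hW d i) := (hW.perm d i).choose_spec e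

theorem pm_injective (d : D) : Function.Injective (pm hW d) := by
  intro i j hij
  obtain ⟨x, hx⟩ := AddSubgroup.ne_bot_iff_exists_ne_zero.1 (hW.ne i)
  have h1 := (pm_spec hW d i x).1 x.2
  rw [hij, ← pm_spec] at h1
  exact eq_of_mem hW (fun h => hx (Subtype.ext h)) x.2 h1

theorem cp_smul (d : D) (e : E) (i : Fin t) : cp hW (d • e) (pm hW d i) = d • cp hW e i := by
  have hb : Function.Bijective (pm hW d) := Finite.injective_iff_bijective.1 (pm_injective hW d)
  let σ : Fin t ≃ Fin t := Equiv.ofBijective _ hb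
  have h := cp_eq hW (e := d • e) (f := fun j => d • cp hW e (σ.symm j)) (fun j => by
    have h1 := (pm_spec hW d (σ.symm j) _).1 (cp_mem hW e (σ.symm j))
    have h2 : pm hW d (σ.symm j) = j := σ.apply_symm_apply j
    rwa [h2] at h1) (by
    rw [← Finset.smul_sum, Equiv.sum_comp σ.symm (fun i => cp hW e i), cp_sum])
  rw [h]
  show d • cp hW e (σ.symm (σ i)) = _
  rw [σ.symm_apply_apply]

/-- the number of nonzero components -/
noncomputable def wt (e : E) : ℕ := Nat.card {i : Fin t // cp hW e i ≠ 0}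

theorem wt_smul (d : D) (e : E) : wt hW (d • e) = wt hW e := by
  have hb : Function.Bijective (pm hW d) := Finite.injective_iff_bijective.1 (pm_injective hW d)
  symm
  refine Nat.card_congr ((Equiv.ofBijective _ hb).subtypeEquiv fun i => ?_)
  show _ ↔ cp hW (d • e) (pm hW d i) ≠ 0
  rw [cp_smul]
  exact (smul_ne_zero_iff_ne d).symm

omit hW in
/-- the stabilizer of a subgroup -/
def stb (D : Type u) {E : Type u} [Group D] [AddCommGroup E] [DistribMulAction D E] (W0 : AddSubgroup E) : Subgroup D where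
  carrier := {d | ∀ e : E, e ∈ W0 ↔ d • e ∈ W0}
  one_mem' := fun e => by rw [one_smul]
  mul_mem' := fun {a b} ha hb e => by rw [hb e, ha (b • e), mul_smul]
  inv_mem' := fun {a} ha e => by rw [ha (a⁻¹ • e), smul_inv_smul]

omit hW in
theorem mem_stb {W0 : AddSubgroup E} {d : D} : d ∈ stb D W0 ↔ ∀ e : E, e ∈ W0 ↔ d • e ∈ W0 := Iff.rfl

theorem mem_stb_of {i : Fin t} {d : D} {e : E} (he : e ≠ 0) (h1 : e ∈ W i) (h2 : d • e ∈ W i) : d ∈ stb D (W i) := by
  have h3 := (pm_spec hW d i e).1 h1
  have h4 := eq_of_mem hW ((smul_ne_zero_iff_ne d).2 he) h3 h2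
  intro e'
  have h5 := pm_spec hW d i e'
  rwa [h4] at h5

instance stbAct (W0 : AddSubgroup E) : DistribMulAction (stb D W0) W0 where
  smul d w := ⟨(d : D) • (w : E), (d.2 w).1 w.2⟩
  one_smul w := Subtype.ext (one_smul D (w : E))
  mul_smul a b w := Subtype.ext (mul_smul (a : D) (b : D) (w : E))
  smul_zero a := Subtype.ext (smul_zero (a : D))
  smul_add a x y := Subtype.ext (smul_add (a : D) (x : E) (y : E))

omit hW in
theorem coe_stb_smul (W0 : AddSubgroup E) (d : stb D W0) (w : W0) : ((d • w : W0) : E) = (d : D) • (w : E) := rfl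

end

/-! ### the number of classes of a subgroup -/

/-- `k(U) < |D : U| k(D)` -/
theorem card_classes_lt {D : Type u} [Group D] [Finite D] (U : Subgroup D) (hU : U ≠ ⊤) :
    Nat.card (ConjClasses U) < U.index * Nat.card (ConjClasses D) := by
  have h1 := card_comm_eq_card_conjClasses_mul_card U
  have h2 := card_comm_eq_card_conjClasses_mul_card D
  obtain ⟨y, hy⟩ : ∃ y : D, y ∉ U := by
    by_contra hcon
    push Not at hcon
    exact hU (eq_top_iff.2 fun x _ => hcon x)
  let f : {p : U × U // Commute p.1 p.2} → {p : D × D // Commute p.1 p.2} :=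
    fun p => ⟨((p.1.1 : D), (p.1.2 : D)), congrArg Subtype.val p.2⟩
  have hf : Function.Injective f := by
    intro a b hab
    have h3 := congrArg Subtype.val hab
    have h4 : (a.1.1 : D) = b.1.1 := congrArg Prod.fst h3
    have h5 : (a.1.2 : D) = b.1.2 := congrArg Prod.snd h3
    exact Subtype.ext (Prod.ext (Subtype.ext h4) (Subtype.ext h5))
  have hfn : ¬ Function.Surjective f := by
    intro hs
    obtain ⟨a, ha⟩ := hs ⟨(1, y), Commute.one_left y⟩
    have h5 : (a.1.2 : D) = y := congrArg (fun p => p.1.2) ha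
    exact hy (h5 ▸ a.1.2.2)
  have h3 : Nat.card {p : U × U // Commute p.1 p.2} < Nat.card {p : D × D // Commute p.1 p.2} := by
    classical
    let : Fintype {p : U × U // Commute p.1 p.2} := Fintype.ofFinite _
    let : Fintype {p : D × D // Commute p.1 p.2} := Fintype.ofFinite _
    rw [Nat.card_eq_fintype_card, Nat.card_eq_fintype_card]
    exact Fintype.card_lt_of_injective_not_surjective f hf hfn
  rw [h1, h2, ← U.card_mul_index] at h3
  have h4 : 0 < Nat.card U := Nat.card_pos
  have h5 : Nat.card (ConjClasses U) * Nat.card U < (U.index * Nat.card (ConjClasses D)) * Nat.card U := by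
    calc _ < _ := h3
      _ = _ := by ring
  exact Nat.lt_of_mul_lt_mul_right h5

section main

variable {D E : Type u} [Group D] [Finite D] [AddCommGroup E] [Finite E] [DistribMulAction D E] {t : ℕ}
  {W : Fin t → AddSubgroup E} (hW : Blk D E t W)

include hW

omit [Finite D] [Finite E] in
theorem index_stb (i : Fin t) : (stb D (W i)).index = t := by
  let f : D → Fin t := fun d => pm hW d i
  have hs : Function.Surjective f := by
    intro j
    obtain ⟨d, hd⟩ := hW.trans i j
    refine ⟨d, ?_⟩
    obtain ⟨x, hx⟩ := AddSubgroup.ne_bot_iff_exists_ne_zero.1 (hW.ne i)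
    have hx0 : (x : E) ≠ 0 := fun h => hx (Subtype.ext h)
    exact eq_of_mem hW ((smul_ne_zero_iff_ne d).2 hx0) ((pm_spec hW d i x).1 x.2) ((hd x).1 x.2)
  have hrel : ∀ a b : D, f a = f b ↔ a⁻¹ * b ∈ stb D (W i) := by
    intro a b
    constructor
    · intro h e
      have h1 := pm_spec hW b i e
      have h2 := pm_spec hW a i (a⁻¹ • (b • e))
      rw [smul_inv_smul] at h2
      rw [mul_smul, h2, h1]
      show _ ∈ W (f b) ↔ _ ∈ W (f a)
      rw [h]
    · intro h
      obtain ⟨x, hx⟩ := AddSubgroup.ne_bot_iff_exists_ne_zero.1 (hW.ne i)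
      have hx0 : (x : E) ≠ 0 := fun h => hx (Subtype.ext h)
      have h1 := (h x).1 x.2
      have h2 := (pm_spec hW a i _).1 h1
      rw [mul_smul, smul_inv_smul] at h2
      exact eq_of_mem hW ((smul_ne_zero_iff_ne b).2 hx0) h2 ((pm_spec hW b i x).1 x.2)
  have he : (D ⧸ stb D (W i)) ≃ Fin t := by
    refine Equiv.ofBijective (Quotient.lift f fun a b hab => (hrel a b).2 (QuotientGroup.leftRel_apply.1 hab)) ⟨?_, ?_⟩
    · rintro ⟨a⟩ ⟨b⟩ hab
      exact Quotient.sound (QuotientGroup.leftRel_apply.2 ((hrel a b).1 hab))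
    · intro j
      obtain ⟨d, hd⟩ := hs j
      exact ⟨QuotientGroup.mk d, hd⟩
  have h := Nat.card_congr he
  rw [Nat.card_eq_fintype_card (α := Fin t), Fintype.card_fin] at h
  exact h

omit [Finite D] [Finite E] in
/-- the stabilizer is irreducible on `W i` -/
theorem irr_stb (hirr : IrrAct D E) (i : Fin t) (X : AddSubgroup (W i))
    (hX : ∀ (d : stb D (W i)), ∀ w ∈ X, d • w ∈ X) : X = ⊥ ∨ X = ⊤ := by
  let Y : AddSubgroup E :=
    { carrier := {e | ∀ d : D, (⟨cp hW (d • e) i, cp_mem hW _ i⟩ : W i) ∈ X}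
      zero_mem' := by
        intro d
        have : (⟨cp hW (d • (0 : E)) i, cp_mem hW _ i⟩ : W i) = 0 := Subtype.ext (by
          show cp hW (d • (0 : E)) i = 0
          rw [smul_zero, cp_zero])
        rw [this]
        exact zero_mem _
      add_mem' := by
        intro a b ha hb d
        have : (⟨cp hW (d • (a + b)) i, cp_mem hW _ i⟩ : W i) =
            ⟨cp hW (d • a) i, cp_mem hW _ i⟩ + ⟨cp hW (d • b) i, cp_mem hW _ i⟩ := Subtype.ext (by
          show cp hW (d • (a + b)) i = cp hW (d • a) i + cp hW (d • b) i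
          rw [smul_add, cp_add])
        rw [this]
        exact add_mem (ha d) (hb d)
      neg_mem' := by
        intro a ha d
        have : (⟨cp hW (d • (-a)) i, cp_mem hW _ i⟩ : W i) = -⟨cp hW (d • a) i, cp_mem hW _ i⟩ := Subtype.ext (by
          show cp hW (d • (-a)) i = - cp hW (d • a) i
          rw [smul_neg, cp_neg])
        rw [this]
        exact neg_mem (ha d) }
  rcases hirr Y (fun d e he d' => by rw [← mul_smul]; exact he (d' * d)) with h | h
  · left
    rw [eq_bot_iff]
    intro x hx
    rw [AddSubgroup.mem_bot]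
    have hxY : (x : E) ∈ Y := by
      intro d
      by_cases hx0 : x = 0
      · have : (⟨cp hW (d • (x : E)) i, cp_mem hW _ i⟩ : W i) = 0 := Subtype.ext (by
          show cp hW (d • (x : E)) i = 0
          rw [hx0, AddSubgroup.coe_zero, smul_zero, cp_zero])
        rw [this]
        exact zero_mem _
      have hx0' : (x : E) ≠ 0 := fun h => hx0 (Subtype.ext h)
      have h1 := (pm_spec hW d i x).1 x.2
      by_cases hi : i = pm hW d i
      · have hd : d ∈ stb D (W i) := mem_stb_of hW hx0' x.2 (by rw [← hi] at h1; exact h1)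
        have h2 := hX ⟨d, hd⟩ x hx
        have : (⟨cp hW (d • (x : E)) i, cp_mem hW _ i⟩ : W i) = (⟨d, hd⟩ : stb D (W i)) • x := Subtype.ext (by
          show cp hW (d • (x : E)) i = d • (x : E)
          rw [cp_of_mem hW h1, if_pos hi])
        rw [this]
        exact h2
      · have : (⟨cp hW (d • (x : E)) i, cp_mem hW _ i⟩ : W i) = 0 := Subtype.ext (by
          show cp hW (d • (x : E)) i = 0
          rw [cp_of_mem hW h1, if_neg hi])
        rw [this]
        exact zero_mem _
    rw [h, AddSubgroup.mem_bot] at hxY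
    exact Subtype.ext hxY
  · right
    rw [eq_top_iff]
    intro x _
    have hxY : (x : E) ∈ Y := by rw [h]; trivial
    have h1 := hxY 1
    have : (⟨cp hW ((1 : D) • (x : E)) i, cp_mem hW _ i⟩ : W i) = x := Subtype.ext (by
      show cp hW ((1 : D) • (x : E)) i = x
      rw [one_smul, cp_of_mem hW x.2, if_pos rfl])
    rwa [this] at h1

/-- elements carrying the block `i` to the block `j` -/
noncomputable def dd (i j : Fin t) : D := (hW.trans i j).choose

omit [Finite D] [Finite E] in
theorem dd_spec (i j : Fin t) (e : E) : e ∈ W i ↔ dd hW i j • e ∈ W j := (hW.trans i j).choose_spec e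

/-- the sum of the first copies of `w` -/
noncomputable def vv (i j : Fin t) (w : W i) : E := ∑ l, if l ≤ j then dd hW i l • (w : E) else 0

omit [Finite D] [Finite E] in
theorem cp_vv (i j : Fin t) (w : W i) : cp hW (vv hW i j w) = fun l => if l ≤ j then dd hW i l • (w : E) else 0 := by
  refine cp_eq hW (fun l => ?_) rfl
  by_cases h : l ≤ j
  · simp only [h, if_true]
    exact (dd_spec hW i l w).1 w.2
  · simp only [h, if_false]
    exact zero_mem _

omit [Finite D] [Finite E] in
theorem wt_vv (i j : Fin t) {w : W i} (hw : w ≠ 0) : wt hW (vv hW i j w) = (j : ℕ) + 1 := by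
  have hw0 : (w : E) ≠ 0 := fun h => hw (Subtype.ext h)
  have h1 : ∀ l : Fin t, cp hW (vv hW i j w) l ≠ 0 ↔ l ≤ j := by
    intro l
    rw [cp_vv]
    by_cases h : l ≤ j
    · simp only [h, if_true, iff_true]
      exact (smul_ne_zero_iff_ne _).2 hw0
    · simp only [h, if_false, ne_eq, not_true_eq_false]
  have h2 : wt hW (vv hW i j w) = Nat.card {l : Fin t // l ≤ j} :=
    Nat.card_congr (Equiv.subtypeEquivRight h1)
  rw [h2, Nat.card_eq_fintype_card]
  have h3 : Fintype.card {l : Fin t // l ≤ j} = (Finset.Iic j).card := by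
    rw [Fintype.card_subtype]
    congr 1
    ext l
    simp
  rw [h3, Fin.card_Iic]

omit [Finite D] in
theorem orb_le (i : Fin t) : t * orb (stb D (W i)) (W i) ≤ orb D E := by
  classical
  let Q := MulAction.orbitRel.Quotient (stb D (W i)) (W i)
  let q0 : Q := Quotient.mk'' 0
  let f : Option (Fin t × {q : Q // q ≠ q0}) → MulAction.orbitRel.Quotient D E := fun o => match o with
    | none => Quotient.mk'' 0
    | some (j, q) => Quotient.mk'' (vv hW i j q.1.out)
  have hne : ∀ q : {q : Q // q ≠ q0}, q.1.out ≠ 0 := by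
    intro q hq
    apply q.2
    have h1 : (Quotient.mk'' (q.1.out) : Q) = q.1 := Quotient.out_eq' q.1
    rw [← h1, hq]
  have hzero : ∀ (j : Fin t) (q : {q : Q // q ≠ q0}),
      (Quotient.mk'' (vv hW i j q.1.out) : MulAction.orbitRel.Quotient D E) ≠ Quotient.mk'' 0 := by
    intro j q h
    have h1 : vv hW i j q.1.out ∈ MulAction.orbit D (0 : E) := MulAction.orbitRel_apply.1 (Quotient.eq''.1 h)
    obtain ⟨d, hd⟩ := h1
    have hd' : d • (0 : E) = vv hW i j q.1.out := hd
    rw [smul_zero] at hd'
    have h2 := wt_vv hW i j (hne q)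
    rw [← hd'] at h2
    have h3 : wt hW (0 : E) = 0 := by
      unfold wt
      rw [Nat.card_eq_zero]
      left
      exact ⟨fun l => l.2 (cp_zero hW l.1)⟩
    omega
  have hf : Function.Injective f := by
    rintro (_ | ⟨j, q⟩) (_ | ⟨j', q'⟩) h
    · rfl
    · exact absurd h.symm (hzero j' q')
    · exact absurd h (hzero j q)
    · have h1 : vv hW i j q.1.out ∈ MulAction.orbit D (vv hW i j' q'.1.out) :=
        MulAction.orbitRel_apply.1 (Quotient.eq''.1 h)
      obtain ⟨d, hd⟩ := h1
      have hd' : d • vv hW i j' q'.1.out = vv hW i j q.1.out := hd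
      have hw := wt_smul hW d (vv hW i j' q'.1.out)
      rw [hd', wt_vv hW i j (hne q), wt_vv hW i j' (hne q')] at hw
      have hj : j = j' := Fin.ext (by omega)
      subst hj
      -- a nonzero component
      have h2 := cp_smul hW d (vv hW i j q'.1.out) j
      rw [hd', cp_vv, cp_vv] at h2
      simp only [le_refl, if_true] at h2
      have hq'0 : ((q'.1.out : W i) : E) ≠ 0 := fun h => hne q' (Subtype.ext h)
      by_cases hl : pm hW d j ≤ j
      · rw [if_pos hl] at h2
        set u : D := (dd hW i (pm hW d j))⁻¹ * d * dd hW i j with hu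
        have h3 : u • ((q'.1.out : W i) : E) = q.1.out := by
          rw [hu, mul_smul, mul_smul, ← h2, inv_smul_smul]
        have hus : u ∈ stb D (W i) := mem_stb_of hW hq'0 (q'.1.out).2 (by rw [h3]; exact (q.1.out).2)
        have h4 : q.1 = q'.1 := by
          have e1 : (Quotient.mk'' (q.1.out) : Q) = q.1 := Quotient.out_eq' q.1
          have e2 : (Quotient.mk'' (q'.1.out) : Q) = q'.1 := Quotient.out_eq' q'.1
          rw [← e1, ← e2]
          refine Quotient.eq''.2 (MulAction.orbitRel_apply.2 ⟨⟨u, hus⟩, Subtype.ext ?_⟩)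
          exact h3
        rw [Subtype.ext h4]
      · rw [if_neg hl] at h2
        exact absurd h2.symm ((smul_ne_zero_iff_ne _).2 ((smul_ne_zero_iff_ne _).2 hq'0))
  have h1 := Nat.card_le_card_of_injective f hf
  rw [Finite.card_option, Nat.card_prod, Nat.card_eq_fintype_card (α := Fin t), Fintype.card_fin] at h1
  have h2 : Nat.card {q : Q // q ≠ q0} = Nat.card Q - 1 := by
    let : Fintype Q := Fintype.ofFinite Q
    rw [Nat.card_eq_fintype_card, Nat.card_eq_fintype_card, Fintype.card_subtype_compl, Fintype.card_subtype_eq]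
  rw [h2] at h1
  show t * (Nat.card Q - 1) ≤ Nat.card (MulAction.orbitRel.Quotient D E) - 1
  omega

end main

section range

variable {U V : Type u} [Group U] [AddCommGroup V] [DistribMulAction U V]

/-- the group induced on `V` -/
abbrev rg (U V : Type u) [Group U] [AddCommGroup V] [DistribMulAction U V] : Subgroup (Equiv.Perm V) :=
  (MulAction.toPermHom U V).range

instance rgAct : DistribMulAction (rg U V) V where
  smul_zero := by
    rintro ⟨_, u, rfl⟩
    exact smul_zero u
  smul_add := by
    rintro ⟨_, u, rfl⟩ v w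
    exact smul_add u v w

theorem card_rg_dvd [Finite U] : Nat.card (rg U V) ∣ Nat.card U :=
  Subgroup.card_range_dvd _

theorem classes_rg [Finite U] : Nat.card (ConjClasses (rg U V)) ≤ Nat.card (ConjClasses U) :=
  Nat.card_le_card_of_surjective _ (ConjClasses.map_surjective (MulAction.toPermHom U V).rangeRestrict_surjective)

theorem orb_rg [Finite V] : orb (rg U V) V ≤ orb U V := by
  unfold orb
  refine Nat.sub_le_sub_right ?_ 1
  refine Nat.card_le_card_of_surjective (Quotient.map' (s₁ := MulAction.orbitRel U V)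
    (s₂ := MulAction.orbitRel (rg U V) V) id fun a b hab => ?_) ?_
  · obtain ⟨u, hu⟩ := MulAction.orbitRel_apply.1 hab
    exact MulAction.orbitRel_apply.2 ⟨⟨MulAction.toPermHom U V u, ⟨u, rfl⟩⟩, hu⟩
  · rintro ⟨v⟩
    exact ⟨Quotient.mk'' v, rfl⟩

end range

variable {D E : Type u} [Group D] [Finite D] [AddCommGroup E] [Finite E] [Nontrivial E] [DistribMulAction D E]
  [FaithfulSMul D E]

theorem ps_imprim {p : ℕ} (hp : p.Prime) (hpE : ∀ e : E, p • e = 0) (hcop : ¬ p ∣ Nat.card D)
    (hirr : IrrAct D E) {t : ℕ} (ht : 2 ≤ t) (W : Fin t → AddSubgroup E) (hW : Blk D E t W)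
    (IH : ∀ (D' E' : Type u) [Group D'] [Finite D'] [AddCommGroup E'] [Finite E'] [Nontrivial E']
      [DistribMulAction D' E'] [FaithfulSMul D' E'], (∀ e : E', p • e = 0) → ¬ p ∣ Nat.card D' → IrrAct D' E' →
      Nat.card E' < Nat.card E → p - 1 ≤ orb D' E' * Nat.card (ConjClasses D')) :
    p - 1 < orb D E * Nat.card (ConjClasses D) := by
  let i : Fin t := ⟨0, by omega⟩
  let U := stb D (W i)
  have hUi : U.index = t := index_stb hW i
  have hU : U ≠ ⊤ := by
    intro h
    rw [h, Subgroup.index_top] at hUi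
    omega
  have hnt : Nontrivial (W i) := (AddSubgroup.nontrivial_iff_ne_bot _).2 (hW.ne i)
  have hlt : Nat.card (W i) < Nat.card E := by
    have h1 := AddSubgroup.card_addSubgroup_dvd_card (W i)
    refine lt_of_le_of_ne (Nat.le_of_dvd Nat.card_pos h1) fun h => ?_
    have h2 : W i = ⊤ := AddSubgroup.eq_top_of_card_eq _ h
    let j : Fin t := ⟨1, by omega⟩
    obtain ⟨x, hx⟩ := AddSubgroup.ne_bot_iff_exists_ne_zero.1 (hW.ne j)
    have h3 : i = j := eq_of_mem hW (fun h => hx (Subtype.ext h)) (by rw [h2]; trivial) x.2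
    have h4 : (0 : ℕ) = 1 := congrArg Fin.val h3
    omega
  have hcop' : ¬ p ∣ Nat.card (rg U (W i)) := fun h =>
    hcop ((h.trans card_rg_dvd).trans (Subgroup.card_subgroup_dvd_card U))
  have hirr' : IrrAct (rg U (W i)) (W i) := by
    intro X hX
    exact irr_stb hW hirr i X fun d w hw => hX ⟨MulAction.toPermHom U (W i) d, ⟨d, rfl⟩⟩ w hw
  have h1 := IH (rg U (W i)) (W i) (fun e => Subtype.ext (by
    show ((p • e : W i) : E) = 0
    rw [AddSubgroup.coe_nsmul]
    exact hpE e)) hcop' hirr' hlt
  have h2 := orb_le hW i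
  have h3 := card_classes_lt U hU
  rw [hUi] at h3
  have h4 := orb_rg (U := U) (V := W i)
  have h5 := classes_rg (U := U) (V := W i)
  have hp2 := hp.two_le
  have h6 : orb (rg U (W i)) (W i) * Nat.card (ConjClasses (rg U (W i))) ≤ orb U (W i) * Nat.card (ConjClasses U) :=
    Nat.mul_le_mul h4 h5
  have h7 : 0 < orb U (W i) := by
    rcases Nat.eq_zero_or_pos (orb U (W i)) with h0 | h0
    · rw [h0, zero_mul] at h6
      omega
    · exact h0
  calc p - 1 ≤ _ := h1
    _ ≤ _ := h6
    _ < orb U (W i) * (t * Nat.card (ConjClasses D)) := Nat.mul_lt_mul_of_pos_left h3 h7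
    _ = (t * orb U (W i)) * Nat.card (ConjClasses D) := by ring
    _ ≤ _ := Nat.mul_le_mul_right _ h2

end Cfsg.Agent.H41.Imprim
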